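import Mathlib

/-!
A homomorphism of `ℕ`-graded rings (given by coactions) is bijective when it is bijective in degree zero,
generates the positive degrees and is flat along the fixed locus.
-/

set_option autoImplicit false

universe u

noncomputable section

namespace Groth.Agent.BBIso

variable {A B : Type u} [CommRing A] [CommRing B]

/-- The component of degree `n` of a coaction. -/
abbrev comp (τ : A →+* MonoidAlgebra A (Multiplicative ℕ)) (n : ℕ) (a : A) : A :=
  (τ a).coeff (Multiplicative.ofAdd n)

/-- The laws of a coaction of the multiplicative monoid `𝔸¹`. -/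
structure IsCoaction (τ : A →+* MonoidAlgebra A (Multiplicative ℕ)) : Prop where
  counit : (MonoidAlgebra.liftNCRingHom (RingHom.id A) (1 : Multiplicative ℕ →* A)
    (fun _ _ => Commute.all _ _)).comp τ = RingHom.id A
  coassoc : ∀ a n, τ ((τ a).coeff n) = MonoidAlgebra.single n ((τ a).coeff n)

variable {τA : A →+* MonoidAlgebra A (Multiplicative ℕ)} {τB : B →+* MonoidAlgebra B (Multiplicative ℕ)}

theorem IsCoaction.sum_comp (h : IsCoaction τA) (a : A) :
    ((τA a).coeff.sum fun _ x => x) = a := by
  conv_rhs => rw [← RingHom.id_apply a, ← h.counit, RingHom.comp_apply]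
  induction τA a using MonoidAlgebra.induction_linear with
  | zero => simp
  | add x y hx hy =>
    rw [MonoidAlgebra.coeff_add, map_add, Finsupp.sum_add_index' (fun _ => rfl) (fun _ _ _ => rfl), hx, hy]
  | single m r => simp

theorem IsCoaction.comp_comp (h : IsCoaction τA) (a : A) (m n : ℕ) :
    comp τA m (comp τA n a) = if n = m then comp τA n a else 0 := by
  rw [comp, comp, h.coassoc, MonoidAlgebra.coeff_single]
  by_cases hnm : n = m
  · subst hnm
    rw [Finsupp.single_eq_same, if_pos rfl]
  · rw [Finsupp.single_eq_of_ne (fun e => hnm (Multiplicative.ofAdd.injective e.symm)), if_neg hnm]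

theorem comp_mul_homogeneous (u a : A) (m n : ℕ) (ha : τA a = MonoidAlgebra.single (Multiplicative.ofAdd m) a) :
    comp τA n (u * a) = if m ≤ n then comp τA (n - m) u * a else 0 := by
  rw [comp, map_mul, ha]
  split_ifs with hmn
  · refine MonoidAlgebra.coeff_mul_single_eq_coeff_mul (m₂ := Multiplicative.ofAdd (n - m)) fun b _ => ⟨fun hb => ?_, ?_⟩
    · apply Multiplicative.toAdd.injective
      have := congrArg Multiplicative.toAdd hb
      simp at this ⊢
      omega
    · rintro rfl
      rw [← ofAdd_add, Nat.sub_add_cancel hmn]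
  · refine MonoidAlgebra.coeff_mul_single_of_forall_mul_ne _ _ fun b hb => ?_
    have := congrArg Multiplicative.toAdd hb
    simp at this
    omega

theorem comp_zero_homogeneous {a : A} {n : ℕ} (hn : n ≠ 0)
    (ha : τA a = MonoidAlgebra.single (Multiplicative.ofAdd n) a) : comp τA 0 a = 0 := by
  rw [comp, ha, MonoidAlgebra.coeff_single, Finsupp.single_eq_of_ne]
  exact fun e => hn (Multiplicative.ofAdd.injective e.symm)

variable (hA : IsCoaction τA) (hB : IsCoaction τB) (φ : B →+* A)
  (hφ : ∀ b n, comp τA n (φ b) = φ (comp τB n b))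
  (h₀ : ∀ a, ∃ b, φ b = comp τA 0 a)
  (hcart : ∀ a, a - comp τA 0 a ∈ Ideal.span (Set.range fun b => φ (b - comp τB 0 b)))
  (hflat : ∀ 𝔭 : Ideal B, 𝔭.IsPrime → (∀ b, b - comp τB 0 b ∈ 𝔭) → ∀ x, φ x = 0 → ∃ s, s ∉ 𝔭 ∧ s * x = 0)

include hA hB hφ h₀ hcart in
theorem surjective : Function.Surjective φ := by
  have key : ∀ n a, τA a = MonoidAlgebra.single (Multiplicative.ofAdd n) a → a ∈ φ.range := by
    intro n
    induction n using Nat.strong_induction_on with
    | _ n ih =>
      intro a ha
      rcases Nat.eq_zero_or_pos n with rfl | hn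
      · obtain ⟨b, hb⟩ := h₀ a
        exact ⟨b, hb.trans (by rw [comp, ha]; simp)⟩
      have hz : ∀ z ∈ Ideal.span (Set.range fun b => φ (b - comp τB 0 b)), ∀ c, comp τA n (z * c) ∈ φ.range := by
        intro z hz
        refine Submodule.span_induction ?_ ?_ ?_ ?_ hz
        · rintro _ ⟨b, rfl⟩ c
          rw [← hA.sum_comp c, Finsupp.sum, Finset.mul_sum]
          rw [show ∀ (s : Finset (Multiplicative ℕ)) (g : Multiplicative ℕ → A),
            comp τA n (∑ k ∈ s, g k) = ∑ k ∈ s, comp τA n (g k) from fun s g => by simp [comp]]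
          refine Subring.sum_mem _ fun k _ => ?_
          rw [comp_mul_homogeneous _ _ k.toAdd n (hA.coassoc c k)]
          split_ifs with hk
          · rcases hk.lt_or_eq with hlt | heq
            · refine Subring.mul_mem _ ⟨_, (hφ _ _).symm⟩ (ih _ hlt _ (hA.coassoc c k))
            · rw [hφ, ← heq, Nat.sub_self]
              have : comp τB 0 (b - comp τB 0 b) = 0 := by
                have h2 := hB.comp_comp b 0 0
                rw [if_pos rfl] at h2
                simp only [comp, map_sub, MonoidAlgebra.coeff_sub, Finsupp.sub_apply] at h2 ⊢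
                rw [h2, sub_self]
              rw [this, map_zero, zero_mul]
              exact Subring.zero_mem _
          · exact Subring.zero_mem _
        · intro c; simp [comp]
        · intro x y _ _ hx hy c
          rw [add_mul, comp, map_add, MonoidAlgebra.coeff_add, Finsupp.add_apply]
          exact Subring.add_mem _ (hx c) (hy c)
        · intro d x _ hx c
          rw [smul_eq_mul, mul_comm d, mul_assoc]
          exact hx _
      have h2 := hz _ (hcart a) 1
      rw [mul_one, comp_zero_homogeneous hn.ne' ha, sub_zero, comp, ha] at h2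
      simpa using h2
  intro a
  have ha : a ∈ φ.range := by
    rw [← hA.sum_comp a]
    exact Subring.sum_mem _ fun k _ => key k.toAdd _ (hA.coassoc a k)
  exact ha

omit hA in
include hB hφ hflat in
theorem injective : Function.Injective φ := by
  rw [injective_iff_map_eq_zero]
  intro x hx
  rw [← hB.sum_comp x]
  refine Finset.sum_eq_zero fun k _ => ?_
  let y := (τB x).coeff k
  have hy : τB y = MonoidAlgebra.single k y := hB.coassoc x k
  have hyker : φ y = 0 := by
    have h := hφ x k.toAdd
    rw [hx] at h
    rw [show y = comp τB k.toAdd x from rfl, ← h]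
    simp [comp]
  by_contra hy0
  let J : Ideal B := Ideal.span (Set.range fun b => b - comp τB 0 b) ⊔ (⊥ : Submodule B B).colon {y}
  have hJ : J ≠ ⊤ := by
    intro hJ
    obtain ⟨u, hu, v, hv, huv⟩ := Submodule.mem_sup.mp (hJ ▸ Submodule.mem_top : (1 : B) ∈ J)
    rw [Submodule.mem_colon_singleton, Submodule.mem_bot, smul_eq_mul] at hv
    have hu0 : comp τB k.toAdd (u * y) = 0 := by
      rw [comp_mul_homogeneous u y k.toAdd k.toAdd hy, if_pos le_rfl, Nat.sub_self]
      suffices ∀ c, comp τB 0 (u * c) = 0 by
        have h := this 1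
        rw [mul_one] at h
        rw [h, zero_mul]
      refine Submodule.span_induction ?_ ?_ ?_ ?_ hu
      · rintro _ ⟨b, rfl⟩ c
        have h0 : comp τB 0 (b - comp τB 0 b) = 0 := by
          have h2 := hB.comp_comp b 0 0
          rw [if_pos rfl] at h2
          simp only [comp, map_sub, MonoidAlgebra.coeff_sub, Finsupp.sub_apply] at h2 ⊢
          rw [h2, sub_self]
        rw [← hB.sum_comp c, Finsupp.sum, Finset.mul_sum,
          show ∀ (s : Finset (Multiplicative ℕ)) (g : Multiplicative ℕ → B),
            comp τB 0 (∑ k ∈ s, g k) = ∑ k ∈ s, comp τB 0 (g k) from fun s g => by simp [comp]]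
        refine Finset.sum_eq_zero fun m _ => ?_
        rw [comp_mul_homogeneous _ _ m.toAdd 0 (hB.coassoc c m)]
        split_ifs with hm
        · rw [Nat.zero_sub, h0, zero_mul]
        · rfl
      · intro c; simp [comp]
      · intro p q _ _ hp hq c
        rw [add_mul, comp, map_add, MonoidAlgebra.coeff_add, Finsupp.add_apply]
        change comp τB 0 (p * c) + comp τB 0 (q * c) = 0
        rw [hp, hq, add_zero]
      · intro d p _ hp c
        rw [smul_eq_mul, mul_comm d, mul_assoc]
        exact hp _
    have : u * y = y := by linear_combination (y) * huv - hv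
    rw [this, comp, hy, MonoidAlgebra.coeff_single] at hu0
    exact hy0 (by simpa using hu0)
  obtain ⟨𝔭, hmax, hle⟩ := Ideal.exists_le_maximal J hJ
  obtain ⟨s, hs, hsy⟩ := hflat 𝔭 hmax.isPrime (fun b => hle (Submodule.mem_sup_left (Ideal.subset_span ⟨b, rfl⟩))) y hyker
  exact hs (hle (Submodule.mem_sup_right (Submodule.mem_colon_singleton.mpr ((Submodule.mem_bot B).mpr hsy))))

end Groth.Agent.BBIso

end
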