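import Mathlib
import Groth.Prelude.Def_Magnet3
import Groth.Agent.MagnetHom.Homotopy
import Groth.Agent.MagnetVB.Coaction
import Groth.Agent.BBIso.Alg

/-!
Actions of the multiplicative monoid `𝔸¹`: the limit at zero and stable affine opens.
-/

set_option autoImplicit false
set_option backward.isDefEq.respectTransparency false
set_option backward.isDefEq.respectTransparency.types false
universe u

open CategoryTheory CategoryTheory.Limits MonoidalCategory CartesianMonoidalCategory MonObj AlgebraicGeometry Opposite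

namespace Groth.Agent.BBIso

open Groth.Agent.MagnetHom Groth.Agent.MagnetVB

noncomputable section

attribute [local instance 50] algZ
attribute [local instance 10000] Algebra.toModule
attribute [-instance] AlgebraicGeometry.instGrpObjSpecAsOverSpec AlgebraicGeometry.instCommGrpObjSpecAsOverSpec

variable {S : Scheme.{u}}

/-- The character of the point zero. -/
def zeroChar (R : Type u) [CommRing R] : Multiplicative ℕ →* R := powersHom R 0

theorem zeroChar_apply (R : Type u) [CommRing R] (n : Multiplicative ℕ) : zeroChar R n = (0 : R) ^ n.toAdd := rfl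

theorem mul_zeroChar {R : Type u} [CommRing R] (p : Multiplicative ℕ →* R) : p * zeroChar R = zeroChar R := by
  ext
  simp [zeroChar_apply]

/-- The point zero of `𝔸¹`. -/
def zeroPt (T : Over S) : T ⟶ Magnet.AMonS S ℕ := ptG T (zeroChar Γ(T.left, ⊤))

theorem comp_zeroPt {T T' : Over S} (t : T' ⟶ T) : t ≫ zeroPt T = zeroPt T' := by
  rw [zeroPt, comp_ptG]
  congr 1
  ext
  simp [zeroChar_apply]

theorem zeroPt_eq_pt (C : Type u) [CommRing C] (str : Spec (CommRingCat.of C) ⟶ S) :
    zeroPt (Over.mk str) = pt C str (zeroChar C) := by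
  rw [← Category.id_comp (zeroPt _), zeroPt, comp_ptG_pt]
  congr 1
  ext
  simp [zeroChar_apply]

theorem mul_zeroPt {T : Over S} (g : T ⟶ Magnet.AMonS S ℕ) : g * zeroPt T = zeroPt T := by
  refine hom_ext_pts fun C _ str r => ?_
  obtain ⟨p, hp⟩ := exists_eq_pt C str (r ≫ g)
  rw [MonObj.comp_mul, hp, comp_zeroPt, zeroPt_eq_pt, ← pt_mul, mul_zeroChar]

variable {X Y : Over S} (a : Magnet.MonAct (Magnet.AMonS S ℕ) X) (b : Magnet.MonAct (Magnet.AMonS S ℕ) Y)

/-- The limit at zero of a point. -/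
def lim {T : Over S} (x : T ⟶ X) : T ⟶ X := lift (zeroPt T) x ≫ a.act

theorem comp_lim {T T' : Over S} (t : T' ⟶ T) (x : T ⟶ X) : t ≫ lim a x = lim a (t ≫ x) := by
  rw [lim, lim, comp_lift_assoc, comp_zeroPt]

theorem lim_fixed {T : Over S} (x : T ⟶ X) : ∀ (T' : Over S) (t : T' ⟶ T) (g : T' ⟶ Magnet.AMonS S ℕ),
    lift g (t ≫ lim a x) ≫ a.act = t ≫ lim a x := fun T' t g => by
  rw [comp_lim, lim, ← a.lift_mul_act, mul_zeroPt]

theorem lim_eq_of_fixed {T : Over S} (x : (Magnet.MonAct.fixedPsh a).obj (op T)) : lim a x.1 = x.1 := by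
  have h := x.2 T (𝟙 T) (zeroPt T)
  rwa [Category.id_comp] at h

/-- The fixed point of a limit. -/
def limPt {T : Over S} (x : T ⟶ X) : (Magnet.MonAct.fixedPsh a).obj (op T) := ⟨lim a x, lim_fixed a x⟩

theorem lim_comp {f : X ⟶ Y} (hf : Magnet.MonAct.IsEquivariant a b f) {T : Over S} (x : T ⟶ X) :
    lim a x ≫ f = lim b (x ≫ f) := by
  rw [lim, lim, Category.assoc]
  exact (Magnet.MonAct.isEquivariant_iff _ _ _).mp hf T (zeroPt T) x

/-- An open stable under `𝔸¹`. -/
def IsStable (U : X.left.Opens) : Prop :=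
  (snd (Magnet.AMonS S ℕ) X).left ⁻¹ᵁ U ≤ a.act.left ⁻¹ᵁ U

theorem IsStable.act_mem {U : X.left.Opens} (hU : IsStable a U) {T : Over S} (g : T ⟶ Magnet.AMonS S ℕ) (x : T ⟶ X)
    (t : T.left) (h : x.left t ∈ U) : (lift g x ≫ a.act).left t ∈ U := by
  rw [Over.comp_left, Scheme.Hom.comp_apply]
  refine hU ?_
  change (snd (Magnet.AMonS S ℕ) X).left ((lift g x).left t) ∈ U
  rwa [← Scheme.Hom.comp_apply, ← Over.comp_left, lift_snd]

theorem IsStable.lim_mem_iff {U : X.left.Opens} (hU : IsStable a U) {T : Over S} (x : T ⟶ X) (t : T.left) :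
    (lim a x).left t ∈ U ↔ x.left t ∈ U := by
  refine ⟨fun hlimU => ?_, hU.act_mem a _ x t⟩
  -- the curve through `x t`
  let K : Type u := T.left.residueField t
  let strK : Spec (CommRingCat.of K) ⟶ S := T.left.fromSpecResidueField t ≫ T.hom
  let q : Over.mk strK ⟶ T := Over.homMk (T.left.fromSpecResidueField t) rfl
  have hq : ∀ s, q.left s = t := fun s => Scheme.fromSpecResidueField_apply t s
  let D : Type u := Polynomial K
  let strD := Spec.map (CommRingCat.ofHom (Polynomial.C : K →+* D)) ≫ strK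
  let pD : Over.mk strD ⟶ Over.mk strK := chg K strK D Polynomial.C
  let h : Over.mk strD ⟶ X := lift (pt D strD (powersHom D Polynomial.X)) (pD ≫ q ≫ x) ≫ a.act
  let ev₀ : Over.mk strK ⟶ Over.mk strD := Over.homMk (Spec.map (CommRingCat.ofHom (Polynomial.evalRingHom (0 : K)))) (by
    change Spec.map (CommRingCat.ofHom (Polynomial.evalRingHom (0 : K))) ≫ Spec.map (CommRingCat.ofHom Polynomial.C) ≫ strK = strK
    rw [← Spec.map_comp_assoc, ← CommRingCat.ofHom_comp,
      show (Polynomial.evalRingHom (0 : K)).comp Polynomial.C = RingHom.id K from RingHom.ext fun r => Polynomial.eval_C,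
      CommRingCat.ofHom_id, Spec.map_id, Category.id_comp])
  have hev : ev₀ ≫ h = q ≫ lim a x := by
    rw [comp_lim, lim, zeroPt_eq_pt, comp_lift_assoc, comp_pt_of_left ev₀ _ rfl]
    congr 2
    · congr 1
      ext n
      simp [zeroChar_apply]
      change Polynomial.eval 0 ((Polynomial.X : D) ^ (1 : ℕ)) = 0
      simp
    · rw [← Category.assoc]
      rw [show ev₀ ≫ pD = 𝟙 _ from Over.OverMorphism.ext (by
        change Spec.map (CommRingCat.ofHom (Polynomial.evalRingHom (0 : K))) ≫ Spec.map (CommRingCat.ofHom Polynomial.C) = 𝟙 _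
        rw [← Spec.map_comp, ← CommRingCat.ofHom_comp,
          show (Polynomial.evalRingHom (0 : K)).comp Polynomial.C = RingHom.id K from RingHom.ext fun r => Polynomial.eval_C,
          CommRingCat.ofHom_id, Spec.map_id]), Category.id_comp]
  let s₀ : (Over.mk strK).left := (default : PrimeSpectrum K)
  have h0 : ev₀.left s₀ ∈ h.left ⁻¹ᵁ U := by
    change h.left (ev₀.left s₀) ∈ U
    rw [← Scheme.Hom.comp_apply, ← Over.comp_left, hev, Over.comp_left, Scheme.Hom.comp_apply, hq]
    exact hlimU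
  -- the generic point of the curve
  let L : Type u := FractionRing D
  let strL := Spec.map (CommRingCat.ofHom (algebraMap D L)) ≫ strD
  let gen : Over.mk strL ⟶ Over.mk strD := chg D strD L (algebraMap D L)
  let sL : (Over.mk strL).left := (default : PrimeSpectrum L)
  have hgen : gen.left sL ∈ h.left ⁻¹ᵁ U := by
    refine Specializes.mem_open ?_ (h.left ⁻¹ᵁ U).isOpen h0
    refine (PrimeSpectrum.le_iff_specializes (gen.left sL : PrimeSpectrum D) (ev₀.left s₀ : PrimeSpectrum D)).mp ?_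
    intro r (hr : algebraMap D L r ∈ (sL : PrimeSpectrum L).asIdeal)
    rw [Ideal.eq_bot_of_prime (sL : PrimeSpectrum L).asIdeal, Ideal.mem_bot,
      map_eq_zero_iff _ (IsFractionRing.injective D L)] at hr
    rw [hr]
    exact zero_mem _
  let τ : L := algebraMap D L Polynomial.X
  have hτ : τ ≠ 0 := fun e => Polynomial.X_ne_zero ((map_eq_zero_iff _ (IsFractionRing.injective D L)).mp e)
  let y : Over.mk strL ⟶ X := gen ≫ h
  have hy : y.left sL ∈ U := by
    rw [Over.comp_left, Scheme.Hom.comp_apply]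
    exact hgen
  have hmem := hU.act_mem a (pt L strL (powersHom L τ⁻¹)) y sL hy
  have e1 : lift (pt L strL (powersHom L τ⁻¹)) y ≫ a.act = (gen ≫ pD ≫ q) ≫ x := by
    change lift _ (gen ≫ lift _ _ ≫ a.act) ≫ a.act = _
    rw [comp_lift_assoc, ← a.lift_mul_act, comp_pt_of_left gen _ rfl, ← pt_mul]
    rw [show powersHom L τ⁻¹ * (algebraMap D L).toMonoidHom.comp (powersHom D Polynomial.X) = 1 from by
      ext
      simp [τ, hτ, ← map_pow, inv_mul_cancel₀],
      MagnetHom.pt_one, Magnet.MonAct.lift_one_act, Category.assoc, Category.assoc]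
  rw [e1, Over.comp_left, Scheme.Hom.comp_apply, Over.comp_left, Over.comp_left, Scheme.Hom.comp_apply,
    Scheme.Hom.comp_apply, hq] at hmem
  exact hmem

theorem IsStable.preimage {f : X ⟶ Y} (hf : Magnet.MonAct.IsEquivariant a b f) {U : Y.left.Opens} (hU : IsStable b U) :
    IsStable a (f.left ⁻¹ᵁ U) := by
  intro w hw
  change f.left (a.act.left w) ∈ U
  have he : a.act ≫ f = (Magnet.AMonS S ℕ ◁ f) ≫ b.act := hf
  rw [← Scheme.Hom.comp_apply, ← Over.comp_left, he, Over.comp_left, Scheme.Hom.comp_apply]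
  refine hU ?_
  change (snd (Magnet.AMonS S ℕ) Y).left ((Magnet.AMonS S ℕ ◁ f).left w) ∈ U
  rw [← Scheme.Hom.comp_apply, ← Over.comp_left, whiskerLeft_snd, Over.comp_left, Scheme.Hom.comp_apply]
  exact hw

section Chart

variable {U : X.left.Opens} (hU : IsAffineOpen U) (hUs : IsStable a U)

/-- The tautological point of an affine open. -/
abbrev taut : Over.mk (hU.fromSpec ≫ X.hom) ⟶ X := Over.homMk hU.fromSpec rfl

theorem taut_mem (t : (Over.mk (hU.fromSpec ≫ X.hom)).left) : (taut hU).left t ∈ U := by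
  change hU.fromSpec t ∈ (U : Set X.left)
  rw [← IsAffineOpen.range_fromSpec hU]
  exact ⟨t, rfl⟩

theorem exists_point_factor {T : Over S} (x : T ⟶ X) (hx : ∀ t, x.left t ∈ U) :
    ∃ x' : T ⟶ Over.mk (hU.fromSpec ≫ X.hom), x' ≫ taut hU = x := by
  refine ⟨Over.homMk (IsOpenImmersion.lift hU.fromSpec x.left ?_) ?_, Over.OverMorphism.ext (IsOpenImmersion.lift_fac _ _ _)⟩
  · rintro _ ⟨t, rfl⟩
    exact hU.range_fromSpec.ge (hx t)
  · change IsOpenImmersion.lift hU.fromSpec x.left _ ≫ hU.fromSpec ≫ X.hom = T.hom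
    rw [IsOpenImmersion.lift_fac_assoc, Over.w x]

include hU hUs in
theorem exists_coaction :
    ∃ τ : Γ(X.left, U) →+* MonoidAlgebra Γ(X.left, U) (Multiplicative ℕ),
      ∀ (C : Type u) [CommRing C] (str : Spec (CommRingCat.of C) ⟶ S) (z : Over.mk str ⟶ X) (g : Γ(X.left, U) →+* C),
        z.left = Spec.map (CommRingCat.ofHom g) ≫ hU.fromSpec → ∀ p : Multiplicative ℕ →* C,
        (lift (pt C str p) z ≫ a.act).left =
          Spec.map (CommRingCat.ofHom (((MonoidAlgebra.liftNCRingHom (RingHom.id C) p (fun _ _ => Commute.all _ _)).comp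
            (MonoidAlgebra.mapRingHom (Multiplicative ℕ) g)).comp τ)) ≫ hU.fromSpec := by
  let B : Type u := Γ(X.left, U)
  let strB : Spec (CommRingCat.of B) ⟶ S := hU.fromSpec ≫ X.hom
  let strU := Spec.map (CommRingCat.ofHom (MonoidAlgebra.singleOneRingHom : B →+* GA B ℕ)) ≫ strB
  let pr : Over.mk strU ⟶ Over.mk strB := chg B strB (GA B ℕ) MonoidAlgebra.singleOneRingHom
  let qU : Over.mk strU ⟶ Magnet.AMonS S ℕ := pt (GA B ℕ) strU (MonoidAlgebra.of B (Multiplicative ℕ))
  let zU : Over.mk strU ⟶ X := lift qU (pr ≫ taut hU) ≫ a.act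
  have hr : Set.range zU.left ⊆ Set.range hU.fromSpec := by
    rintro _ ⟨t, rfl⟩
    rw [IsAffineOpen.range_fromSpec]
    refine hUs.act_mem a qU (pr ≫ taut hU) t ?_
    rw [Over.comp_left, Scheme.Hom.comp_apply]
    exact taut_mem hU _
  refine ⟨(Spec.preimage (IsOpenImmersion.lift hU.fromSpec zU.left hr)).hom, fun C _ str z g hz p => ?_⟩
  let h : GA B ℕ →+* C := (MonoidAlgebra.liftNCRingHom (RingHom.id C) p (fun _ _ => Commute.all _ _)).comp
    (MonoidAlgebra.mapRingHom (Multiplicative ℕ) g)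
  have hh : h.comp MonoidAlgebra.singleOneRingHom = g := by ext b; simp [h]
  let t : Over.mk str ⟶ Over.mk strU := Over.homMk (Spec.map (CommRingCat.ofHom h)) (by
    change Spec.map (CommRingCat.ofHom h) ≫ Spec.map _ ≫ hU.fromSpec ≫ X.hom = str
    rw [← Spec.map_comp_assoc, ← CommRingCat.ofHom_comp, hh, ← Category.assoc, ← hz]
    exact Over.w z)
  have ht : t ≫ pr ≫ taut hU = z := Over.OverMorphism.ext (by
    change Spec.map (CommRingCat.ofHom h) ≫ Spec.map _ ≫ hU.fromSpec = z.left
    rw [← Spec.map_comp_assoc, ← CommRingCat.ofHom_comp, hh, hz])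
  have hq : t ≫ qU = pt C str p := by
    rw [comp_pt_of_left t h rfl]
    congr 1
    ext n
    simp [h]
  rw [show lift (pt C str p) z ≫ a.act = t ≫ zU from by rw [comp_lift_assoc, hq, ht], CommRingCat.ofHom_comp,
    Spec.map_comp, Category.assoc, CommRingCat.ofHom_hom, Spec.map_preimage, IsOpenImmersion.lift_fac]
  rfl

/-- The defining property of the coaction of a chart. -/
def IsChartCoaction (τ : Γ(X.left, U) →+* MonoidAlgebra Γ(X.left, U) (Multiplicative ℕ)) : Prop :=
  ∀ (C : Type u) [CommRing C] (str : Spec (CommRingCat.of C) ⟶ S) (z : Over.mk str ⟶ X) (g : Γ(X.left, U) →+* C),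
    z.left = Spec.map (CommRingCat.ofHom g) ≫ hU.fromSpec → ∀ p : Multiplicative ℕ →* C,
    (lift (pt C str p) z ≫ a.act).left =
      Spec.map (CommRingCat.ofHom (((MonoidAlgebra.liftNCRingHom (RingHom.id C) p (fun _ _ => Commute.all _ _)).comp
        (MonoidAlgebra.mapRingHom (Multiplicative ℕ) g)).comp τ)) ≫ hU.fromSpec

variable {a} {τ : Γ(X.left, U) →+* MonoidAlgebra Γ(X.left, U) (Multiplicative ℕ)} (hτ : IsChartCoaction a hU τ)

include hτ in
theorem lim_left {C : Type u} [CommRing C] {str : Spec (CommRingCat.of C) ⟶ S} (z : Over.mk str ⟶ X)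
    (g : Γ(X.left, U) →+* C) (hz : z.left = Spec.map (CommRingCat.ofHom g) ≫ hU.fromSpec) :
    ∃ g' : Γ(X.left, U) →+* C, (lim a z).left = Spec.map (CommRingCat.ofHom g') ≫ hU.fromSpec ∧
      ∀ x, g' x = g (comp τ 0 x) := by
  refine ⟨_, by rw [lim, zeroPt_eq_pt]; exact hτ C str z g hz _, fun x => ?_⟩
  simp only [RingHom.comp_apply, comp]
  induction τ x using MonoidAlgebra.induction_linear with
  | zero => simp
  | add p q hp hq => rw [map_add, map_add, MonoidAlgebra.coeff_add, Finsupp.add_apply, map_add, hp, hq]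
  | single n c =>
    obtain ⟨n, rfl⟩ := Multiplicative.ofAdd.surjective n
    simp only [MonoidAlgebra.mapRingHom_single, MonoidAlgebra.coeff_single]
    change (MonoidAlgebra.liftNCRingHom (RingHom.id C) (zeroChar C) (fun _ _ => Commute.all _ _))
      (MonoidAlgebra.single (Multiplicative.ofAdd n) (g c)) = _
    by_cases hn : n = 0
    · subst hn; simp [zeroChar_apply]
    · rw [Finsupp.single_eq_of_ne fun e => hn (Multiplicative.ofAdd.injective e.symm)]
      simp [zeroChar_apply, zero_pow hn]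

include hτ in
theorem isCoaction : IsCoaction τ := by
  let B : Type u := Γ(X.left, U)
  refine ⟨?_, fun b n => ?_⟩
  · have hz : (taut hU).left = Spec.map (CommRingCat.ofHom (RingHom.id B)) ≫ hU.fromSpec := by
      erw [CommRingCat.ofHom_id, Spec.map_id, Category.id_comp]; rfl
    have h := hτ _ _ (taut hU) (RingHom.id _) hz 1
    rw [MagnetHom.pt_one, Magnet.MonAct.lift_one_act, hz] at h
    have h2 := hom_ext_of_fromSpec hU h
    conv_rhs => rw [h2]
    congr 1
    refine MonoidAlgebra.ringHom_ext (fun r => ?_) (fun n => ?_) <;> simp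
  let E := GA (GA B ℕ) ℕ
  let c₁ : B →+* GA B ℕ := MonoidAlgebra.singleOneRingHom
  let c₂ : GA B ℕ →+* E := MonoidAlgebra.singleOneRingHom
  let c : B →+* E := c₂.comp c₁
  let str : Spec (CommRingCat.of E) ⟶ S := Spec.map (CommRingCat.ofHom c) ≫ hU.fromSpec ≫ X.hom
  let z : Over.mk str ⟶ X := Over.homMk (Spec.map (CommRingCat.ofHom c) ≫ hU.fromSpec) (Category.assoc _ _ _)
  let p : Multiplicative ℕ →* E := c₂.toMonoidHom.comp (MonoidAlgebra.of B (Multiplicative ℕ))
  let p' : Multiplicative ℕ →* E := MonoidAlgebra.of (GA B ℕ) (Multiplicative ℕ)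
  let g₁ : B →+* E := ((MonoidAlgebra.liftNCRingHom (RingHom.id E) p (fun _ _ => Commute.all _ _)).comp
    (MonoidAlgebra.mapRingHom (Multiplicative ℕ) c)).comp τ
  let z₁ : Over.mk str ⟶ X := lift (pt E str p) z ≫ a.act
  have h₁ : z₁.left = Spec.map (CommRingCat.ofHom g₁) ≫ hU.fromSpec := hτ E str z c rfl p
  have h₂ := hτ E str z₁ g₁ h₁ p'
  have h₃ := hτ E str z c rfl (p' * p)
  rw [← a.lift_mul_act, ← pt_mul, h₃] at h₂
  have h := RingHom.congr_fun (hom_ext_of_fromSpec hU h₂) b
  have hsingle : ∀ {D : Type u} [CommRing D] (g : B →+* D) (q : Multiplicative ℕ →* D) (m : Multiplicative ℕ) (r : B),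
      ((MonoidAlgebra.liftNCRingHom (RingHom.id D) q (fun _ _ => Commute.all _ _)).comp
        (MonoidAlgebra.mapRingHom (Multiplicative ℕ) g)) (MonoidAlgebra.single m r) = g r * q m := fun g q m r => by simp
  have hg₁ : g₁ = c₂.comp τ := by
    have : (MonoidAlgebra.liftNCRingHom (RingHom.id E) p (fun _ _ => Commute.all _ _)).comp
        (MonoidAlgebra.mapRingHom (Multiplicative ℕ) c) = c₂ := MonoidAlgebra.ringHom_ext
      (fun r => by rw [hsingle, map_one, _root_.mul_one]; rfl)
      (fun m => by rw [hsingle, map_one, _root_.one_mul]; rfl)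
    simp only [g₁, this]
  have hL : (((MonoidAlgebra.liftNCRingHom (RingHom.id E) (p' * p) (fun _ _ => Commute.all _ _)).comp
        (MonoidAlgebra.mapRingHom (Multiplicative ℕ) c)).comp τ b).coeff n = MonoidAlgebra.single n ((τ b).coeff n) := by
    rw [RingHom.comp_apply]
    induction τ b using MonoidAlgebra.induction_linear with
    | zero => simp
    | add x y hx hy => rw [map_add, MonoidAlgebra.coeff_add, Finsupp.add_apply, hx, hy, MonoidAlgebra.coeff_add,
        Finsupp.add_apply, MonoidAlgebra.single_add]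
    | single m r =>
      rw [hsingle]
      change ((MonoidAlgebra.single 1 (MonoidAlgebra.single 1 r) : E) *
        (MonoidAlgebra.single m 1 * MonoidAlgebra.single 1 (MonoidAlgebra.single m 1))).coeff n = _
      simp only [MonoidAlgebra.single_mul_single, _root_.one_mul, _root_.mul_one, MonoidAlgebra.coeff_single]
      by_cases hm : m = n
      · subst hm; rw [Finsupp.single_eq_same, Finsupp.single_eq_same]
      · rw [Finsupp.single_eq_of_ne (Ne.symm hm), Finsupp.single_eq_of_ne (Ne.symm hm), MonoidAlgebra.single_zero]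
  have hR : (((MonoidAlgebra.liftNCRingHom (RingHom.id E) p' (fun _ _ => Commute.all _ _)).comp
        (MonoidAlgebra.mapRingHom (Multiplicative ℕ) g₁)).comp τ b).coeff n = τ ((τ b).coeff n) := by
    rw [RingHom.comp_apply, hg₁]
    induction τ b using MonoidAlgebra.induction_linear with
    | zero => simp
    | add x y hx hy => rw [map_add, MonoidAlgebra.coeff_add, Finsupp.add_apply, hx, hy, MonoidAlgebra.coeff_add,
        Finsupp.add_apply, map_add]
    | single m r =>
      rw [hsingle]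
      change ((MonoidAlgebra.single 1 (τ r) : E) * MonoidAlgebra.single m 1).coeff n = _
      simp only [MonoidAlgebra.single_mul_single, _root_.one_mul, _root_.mul_one, MonoidAlgebra.coeff_single]
      by_cases hm : m = n
      · subst hm; rw [Finsupp.single_eq_same, Finsupp.single_eq_same]
      · rw [Finsupp.single_eq_of_ne (Ne.symm hm), Finsupp.single_eq_of_ne (Ne.symm hm), map_zero]
  rw [← hR, ← hL, h]

end Chart

variable {a b}

theorem exists_stable_affine_subset {V : X.left.Opens} (hV : IsAffineOpen V) (hVs : IsStable a V) {T : Over S}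
    (x : T ⟶ X) (t : T.left) (hx : x.left t ∈ V) (W : X.left.Opens) (hW : (lim a x).left t ∈ W) :
    ∃ V' : X.left.Opens, IsAffineOpen V' ∧ IsStable a V' ∧ V' ≤ V ∧ x.left t ∈ V' ∧
      ∀ (T' : Over S) (y : T' ⟶ X) (t' : T'.left), y.left t' ∈ V' → (lim a y).left t' ∈ W := by
  obtain ⟨τ, hτ⟩ := exists_coaction a hV hVs
  let B : Type u := Γ(X.left, V)
  obtain ⟨t₀, ht₀⟩ : (lim a x).left t ∈ Set.range hV.fromSpec := by
    rw [IsAffineOpen.range_fromSpec]
    exact (hVs.lim_mem_iff a x t).mpr hx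
  obtain ⟨_, ⟨_, ⟨h, rfl⟩, rfl⟩, hth, hhW⟩ := (PrimeSpectrum.isBasis_basic_opens (R := B)).exists_subset_of_mem_open
    (show t₀ ∈ hV.fromSpec ⁻¹ᵁ W by change hV.fromSpec t₀ ∈ W; rw [ht₀]; exact hW) (hV.fromSpec ⁻¹ᵁ W).isOpen
  let c : B := comp τ 0 h
  obtain ⟨g', hg', hg''⟩ := lim_left hV hτ (taut hV) (RingHom.id _) (by
    erw [CommRingCat.ofHom_id, Spec.map_id, Category.id_comp]; rfl)
  have key : ∀ (T' : Over S) (y : T' ⟶ X) (t' : T'.left), y.left t' ∈ V →
      (y.left t' ∈ X.left.basicOpen c ↔ (lim a y).left t' ∈ X.left.basicOpen h) := by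
    intro T' y t' hy
    let O : Over S := Over.mk ((y.left ⁻¹ᵁ V).ι ≫ T'.hom)
    let o : O ⟶ T' := Over.homMk (y.left ⁻¹ᵁ V).ι rfl
    obtain ⟨y', hy'⟩ := exists_point_factor hV (o ≫ y) fun s => (show (y.left ⁻¹ᵁ V).toScheme from s).2
    let s : O.left := (⟨t', hy⟩ : (y.left ⁻¹ᵁ V).toScheme)
    have e1 : y.left t' = hV.fromSpec (y'.left s) := by
      change (o ≫ y).left s = (y' ≫ taut hV).left s
      rw [hy']
    have e2 : (lim a y).left t' = hV.fromSpec (Spec.map (CommRingCat.ofHom g') (y'.left s)) := by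
      change (o ≫ lim a y).left s = _
      rw [comp_lim, ← hy', ← comp_lim, Over.comp_left, Scheme.Hom.comp_apply, hg']
      rfl
    have hb : ∀ (p : PrimeSpectrum B) (w : B), hV.fromSpec p ∈ X.left.basicOpen w ↔ p ∈ PrimeSpectrum.basicOpen w := by
      intro p w
      rw [← IsAffineOpen.fromSpec_preimage_basicOpen hV w]
      rfl
    rw [e1, e2, hb, hb, PrimeSpectrum.mem_basicOpen, PrimeSpectrum.mem_basicOpen]
    change c ∉ (y'.left s : PrimeSpectrum B).asIdeal ↔ g' h ∉ (y'.left s : PrimeSpectrum B).asIdeal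
    rw [hg'']
    rfl
  have hle : X.left.basicOpen c ≤ V := X.left.basicOpen_le c
  refine ⟨X.left.basicOpen c, hV.basicOpen c, fun w hw => ?_, hle, ?_, fun T' y t' hy => ?_⟩
  · change a.act.left w ∈ X.left.basicOpen c
    change (snd (Magnet.AMonS S ℕ) X).left w ∈ X.left.basicOpen c at hw
    have hw' : a.act.left w ∈ V := hVs (show w ∈ (snd (Magnet.AMonS S ℕ) X).left ⁻¹ᵁ V from hle hw)
    rw [key _ a.act w hw']
    rw [key _ _ w (hle hw)] at hw
    have e : lim a a.act = lim a (snd (Magnet.AMonS S ℕ) X) := by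
      have e0 : a.act = lift (fst (Magnet.AMonS S ℕ) X) (snd (Magnet.AMonS S ℕ) X) ≫ a.act := by
        rw [lift_fst_snd, Category.id_comp]
      rw [lim, lim]
      refine (congrArg (fun y => lift (zeroPt _) y ≫ a.act) e0).trans ?_
      rw [← a.lift_mul_act, AMonS_mul_comm (zeroPt _), mul_zeroPt]
    rwa [e]
  · rw [key _ x t hx, ← ht₀]
    change t₀ ∈ hV.fromSpec ⁻¹ᵁ X.left.basicOpen h
    rw [IsAffineOpen.fromSpec_preimage_basicOpen]
    exact hth
  · have hm := (key _ y t' (hle hy)).mp hy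
    obtain ⟨p, hp⟩ : (lim a y).left t' ∈ Set.range hV.fromSpec := by
      rw [IsAffineOpen.range_fromSpec]
      exact X.left.basicOpen_le h hm
    rw [← hp] at hm ⊢
    refine hhW (show p ∈ PrimeSpectrum.basicOpen h from ?_)
    rw [← IsAffineOpen.fromSpec_preimage_basicOpen hV h]
    exact hm

end

end Groth.Agent.BBIso
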