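import Mathlib
import Groth.Agent.BBIso.Geom

/-!
An equivariant morphism of locally linear `𝔸¹`-schemes which is bijective on fixed points, fixed-point
reflecting and flat along the fixed locus is an isomorphism.
-/

set_option autoImplicit false
set_option backward.isDefEq.respectTransparency false
set_option backward.isDefEq.respectTransparency.types false
universe u

open CategoryTheory CategoryTheory.Limits MonoidalCategory CartesianMonoidalCategory MonObj AlgebraicGeometry Opposite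

namespace Groth.Agent.BBIso

open Groth.Agent.MagnetHom Groth.Agent.MagnetVB

noncomputable section

attribute [local instance 50] algZ
attribute [local instance 10000] Algebra.toModule
attribute [-instance] AlgebraicGeometry.instGrpObjSpecAsOverSpec AlgebraicGeometry.instCommGrpObjSpecAsOverSpec

variable {S : Scheme.{u}} {X Y : Over S} {a : Magnet.MonAct (Magnet.AMonS S ℕ) X}
  {b : Magnet.MonAct (Magnet.AMonS S ℕ) Y} (f : X ⟶ Y) (hf : Magnet.MonAct.IsEquivariant a b f)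

omit hf in
theorem isFixed_of_lim_eq {T : Over S} (x : T ⟶ X) (h : lim a x = x) :
    ∀ (T' : Over S) (t : T' ⟶ T) (g : T' ⟶ Magnet.AMonS S ℕ), lift g (t ≫ x) ≫ a.act = t ≫ x := by
  rw [← h]
  exact lim_fixed a x

omit hf in
theorem lim_lim {T : Over S} (x : T ⟶ X) : lim a (lim a x) = lim a x := lim_eq_of_fixed a (limPt a x)

omit hf in
theorem isAffineOpen_preimage_inter {V : X.left.Opens} (hV : IsAffineOpen V) {U U' : Y.left.Opens} (hU : IsAffineOpen U)
    (hU' : IsAffineOpen U') (hUU : U' ≤ U) (hVU : V ≤ f.left ⁻¹ᵁ U) (hle : f.left ⁻¹ᵁ U' ≤ V) :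
    IsAffineOpen (f.left ⁻¹ᵁ U') := by
  haveI : IsAffine U.toScheme := hU
  haveI : IsAffine V.toScheme := hV
  let r : V.toScheme ⟶ U.toScheme := Scheme.Hom.resLE f.left U V hVU
  have h1 : IsAffineOpen (U.ι ⁻¹ᵁ U') := hU'.preimage_of_isOpenImmersion U.ι (by rw [Scheme.Opens.opensRange_ι]; exact hUU)
  have h2 := (h1.preimage r).image_of_isOpenImmersion V.ι
  rwa [← Scheme.Hom.comp_preimage, Scheme.Hom.resLE_comp_ι, Scheme.Hom.comp_preimage,
    Scheme.Hom.image_preimage_eq_opensRange_inf, Scheme.Opens.opensRange_ι, inf_eq_right.mpr hle] at h2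

variable (hsurj : ∀ (T : Over S) (w : (Magnet.MonAct.fixedPsh b).obj (op T)),
    ∃ x : (Magnet.MonAct.fixedPsh a).obj (op T), x.1 ≫ f = w.1)
  (hinj : ∀ (T : Over S) (x x' : (Magnet.MonAct.fixedPsh a).obj (op T)), x.1 ≫ f = x'.1 ≫ f → x.1 = x'.1)
  (hrefl : ∀ (T : Over S) (z : T ⟶ X), lim b (z ≫ f) = z ≫ f → lim a z = z)

include hf hsurj hinj in
theorem exists_affine_pieces
    (hX : ∀ x : X.left, ∃ U : X.left.Opens, x ∈ U ∧ IsAffineOpen U ∧ IsStable a U)
    (hY : ∀ y : Y.left, ∃ U : Y.left.Opens, y ∈ U ∧ IsAffineOpen U ∧ IsStable b U) (y : Y.left) :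
    ∃ U' : Y.left.Opens, y ∈ U' ∧ IsAffineOpen U' ∧ IsStable b U' ∧ IsAffineOpen (f.left ⁻¹ᵁ U') ∧
      IsStable a (f.left ⁻¹ᵁ U') := by
  obtain ⟨U, hyU, hU, hUs⟩ := hY y
  let u := taut hU
  obtain ⟨g, hg⟩ := hsurj _ (limPt b u)
  replace hg : g.1 ≫ f = lim b u := hg
  obtain ⟨p, hp⟩ : y ∈ Set.range hU.fromSpec := hU.range_fromSpec.ge hyU
  obtain ⟨V₀, hxV₀, hV₀, hV₀s⟩ := hX (g.1.left p)
  have hlimU : ∀ t, (lim b u).left t ∈ U := fun t => hUs.act_mem b _ u t (taut_mem hU t)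
  have hgW : g.1.left p ∈ f.left ⁻¹ᵁ U := by
    change f.left (g.1.left p) ∈ U
    rw [← Scheme.Hom.comp_apply, ← Over.comp_left, hg]
    exact hlimU p
  obtain ⟨V', hV', hV's, -, hgV', hV'lim⟩ := exists_stable_affine_subset hV₀ hV₀s g.1 p hxV₀ (f.left ⁻¹ᵁ U)
    (by rw [lim_eq_of_fixed a g]; exact hgW)
  have hV'U : V' ≤ f.left ⁻¹ᵁ U := fun x hx =>
    ((hUs.preimage a b hf).lim_mem_iff a (𝟙 X) x).mp (hV'lim X (𝟙 X) x hx)
  obtain ⟨u₁, hu₁⟩ := exists_point_factor hU (lim b u) hlimU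
  have hug : u₁ ≫ g.1 = g.1 := hinj _ ⟨u₁ ≫ g.1, fun T' t q => by rw [← Category.assoc]; exact g.2 T' (t ≫ u₁) q⟩ g (by
    change (u₁ ≫ g.1) ≫ f = g.1 ≫ f
    rw [Category.assoc, hg, comp_lim, hu₁, lim_lim])
  let W₁ : Y.left.Opens := hU.fromSpec ''ᵁ (g.1.left ⁻¹ᵁ V')
  have hpW : (lim b u).left p ∈ W₁ := by
    rw [← hu₁, Over.comp_left, Scheme.Hom.comp_apply]
    refine ⟨u₁.left p, ?_, rfl⟩
    change g.1.left (u₁.left p) ∈ V'
    rw [← Scheme.Hom.comp_apply, ← Over.comp_left, hug]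
    exact hgV'
  obtain ⟨U', hU', hU's, hU'U, hyU', hU'lim⟩ := exists_stable_affine_subset hU hUs u p (taut_mem hU p) W₁ hpW
  have hle : f.left ⁻¹ᵁ U' ≤ V' := by
    intro x hx
    let O : Over S := Over.mk ((f.left ⁻¹ᵁ U').ι ≫ X.hom)
    let o : O ⟶ X := Over.homMk (f.left ⁻¹ᵁ U').ι rfl
    let s : O.left := (⟨x, hx⟩ : (f.left ⁻¹ᵁ U').toScheme)
    obtain ⟨z', hz'⟩ := exists_point_factor hU (o ≫ f) fun t => hU'U (show (f.left ⁻¹ᵁ U').toScheme from t).2
    have e : z' ≫ g.1 = lim a o := hinj _ ⟨z' ≫ g.1, fun T' t q => by rw [← Category.assoc]; exact g.2 T' (t ≫ z') q⟩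
      (limPt a o) (by
        change (z' ≫ g.1) ≫ f = lim a o ≫ f
        rw [Category.assoc, hg, comp_lim, hz', lim_comp a b hf])
    obtain ⟨q, hq, hq'⟩ := hU'lim O (o ≫ f) s hx
    refine (hV's.lim_mem_iff a o s).mp ?_
    rw [← hz', ← comp_lim, ← hu₁, Over.comp_left, Over.comp_left, Scheme.Hom.comp_apply, Scheme.Hom.comp_apply] at hq'
    have hqz : q = u₁.left (z'.left s) := hU.fromSpec.isOpenEmbedding.injective hq'
    rw [← e, ← hug, Over.comp_left, Over.comp_left, Scheme.Hom.comp_apply, Scheme.Hom.comp_apply, ← hqz]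
    exact hq
  refine ⟨U', ?_, hU', hU's, isAffineOpen_preimage_inter f hV' hU hU' hU'U hV'U hle, hU's.preimage a b hf⟩
  rw [← hp]
  exact hyU'

include hf hsurj hinj hrefl in
theorem isIso_morphismRestrict {U : Y.left.Opens} (hU : IsAffineOpen U) (hUs : IsStable b U)
    (hO : IsAffineOpen (f.left ⁻¹ᵁ U)) (hOs : IsStable a (f.left ⁻¹ᵁ U)) (V : X.left.Opens) [Flat (V.ι ≫ f.left)]
    (h3 : ∀ (T : Over S) (x : (Magnet.MonAct.fixedPsh a).obj (op T)), x.1.left ⁻¹ᵁ V = ⊤) :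
    IsIso (f.left ∣_ U) := by
  obtain ⟨τA, hτA⟩ := exists_coaction a hO hOs
  obtain ⟨τB, hτB⟩ := exists_coaction b hU hUs
  let A : Type u := Γ(X.left, f.left ⁻¹ᵁ U)
  let B : Type u := Γ(Y.left, U)
  let φ₀ : Γ(Y.left, U) ⟶ Γ(X.left, f.left ⁻¹ᵁ U) := f.left.appLE U (f.left ⁻¹ᵁ U) le_rfl
  let φ : B →+* A := φ₀.hom
  have hφspec : Spec.map φ₀ ≫ hU.fromSpec = hO.fromSpec ≫ f.left :=
    IsAffineOpen.SpecMap_appLE_fromSpec f.left hU hO le_rfl
  have hcomp : ∀ {C : Type u} [CommRing C] {str : Spec (CommRingCat.of C) ⟶ S} (z : Over.mk str ⟶ X) (g : A →+* C),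
      z.left = Spec.map (CommRingCat.ofHom g) ≫ hO.fromSpec →
        (z ≫ f).left = Spec.map (CommRingCat.ofHom (g.comp φ)) ≫ hU.fromSpec := fun z g hz => by
    rw [Over.comp_left, hz, Category.assoc, ← hφspec, ← Spec.map_comp_assoc]
    rfl
  have hidA : (taut hO).left = Spec.map (CommRingCat.ofHom (RingHom.id A)) ≫ hO.fromSpec := by
    erw [CommRingCat.ofHom_id, Spec.map_id, Category.id_comp]; rfl
  have hidB : (taut hU).left = Spec.map (CommRingCat.ofHom (RingHom.id B)) ≫ hU.fromSpec := by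
    erw [CommRingCat.ofHom_id, Spec.map_id, Category.id_comp]; rfl
  -- compatibility of the coactions
  have hφ : ∀ x n, comp τA n (φ x) = φ (comp τB n x) := by
    intro x n
    let E := GA A ℕ
    let c : A →+* E := MonoidAlgebra.singleOneRingHom
    let str : Spec (CommRingCat.of E) ⟶ S := Spec.map (CommRingCat.ofHom c) ≫ hO.fromSpec ≫ X.hom
    let z : Over.mk str ⟶ X := Over.homMk (Spec.map (CommRingCat.ofHom c) ≫ hO.fromSpec) (Category.assoc _ _ _)
    let p : Multiplicative ℕ →* E := MonoidAlgebra.of A (Multiplicative ℕ)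
    have h₁ := hcomp (lift (pt E str p) z ≫ a.act) _ (hτA E str z c rfl p)
    have h₂ := hτB E str (z ≫ f) _ (hcomp z c rfl) p
    rw [Category.assoc, (Magnet.MonAct.isEquivariant_iff _ _ _).mp hf, h₂] at h₁
    have h := RingHom.congr_fun (hom_ext_of_fromSpec hU h₁) x
    have eA : (MonoidAlgebra.liftNCRingHom (RingHom.id E) p (fun _ _ => Commute.all _ _)).comp
        (MonoidAlgebra.mapRingHom (Multiplicative ℕ) c) = RingHom.id _ := MonoidAlgebra.ringHom_ext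
      (fun r => by simp [p, c]; rfl) (fun m => by simp [p, c]; rfl)
    have eB : (MonoidAlgebra.liftNCRingHom (RingHom.id E) p (fun _ _ => Commute.all _ _)).comp
        (MonoidAlgebra.mapRingHom (Multiplicative ℕ) (c.comp φ)) = MonoidAlgebra.mapRingHom (Multiplicative ℕ) φ :=
      MonoidAlgebra.ringHom_ext (fun r => by simp [p, c]; rw [MonoidAlgebra.mapRingHom_single]; rfl)
        (fun m => by simp [p, c]; rw [MonoidAlgebra.mapRingHom_single, map_one]; rfl)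
    rw [eA, eB, RingHom.id_comp] at h
    simp only [RingHom.comp_apply] at h
    change (τA (φ x)).coeff _ = φ ((τB x).coeff _)
    rw [← h, MonoidAlgebra.coeff_mapRingHom]
  -- degree zero
  obtain ⟨g, hg⟩ := hsurj _ (limPt b (taut hU))
  replace hg : g.1 ≫ f = lim b (taut hU) := hg
  have hgO : ∀ t, g.1.left t ∈ f.left ⁻¹ᵁ U := fun t => by
    change f.left (g.1.left t) ∈ U
    rw [← Scheme.Hom.comp_apply, ← Over.comp_left, hg]
    exact hUs.act_mem b _ _ t (taut_mem hU t)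
  obtain ⟨g', hg'⟩ := exists_point_factor hO g.1 hgO
  let ψ : A →+* B := (Spec.preimage (g'.left : Spec (CommRingCat.of B) ⟶ Spec (CommRingCat.of A))).hom
  have hψ : g.1.left = Spec.map (CommRingCat.ofHom ψ) ≫ hO.fromSpec := by
    rw [← hg', Over.comp_left, CommRingCat.ofHom_hom, Spec.map_preimage]
    rfl
  let x'' : Over.mk (hO.fromSpec ≫ X.hom) ⟶ Over.mk (hU.fromSpec ≫ Y.hom) := Over.homMk (Spec.map φ₀) (by
    change Spec.map φ₀ ≫ hU.fromSpec ≫ Y.hom = hO.fromSpec ≫ X.hom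
    rw [reassoc_of% hφspec, Over.w f])
  have hx'' : x'' ≫ taut hU = taut hO ≫ f := Over.OverMorphism.ext hφspec
  have hxg : x'' ≫ g.1 = lim a (taut hO) :=
    hinj _ ⟨x'' ≫ g.1, fun T' t q => by rw [← Category.assoc]; exact g.2 T' (t ≫ x'') q⟩ (limPt a (taut hO)) (by
      change (x'' ≫ g.1) ≫ f = lim a (taut hO) ≫ f
      rw [Category.assoc, hg, comp_lim, hx'', lim_comp a b hf])
  have h₀ : ∀ x, ∃ y, φ y = comp τA 0 x := by
    intro x
    obtain ⟨q, hq, hq'⟩ := lim_left hO hτA (taut hO) (RingHom.id A) hidA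
    rw [← hxg, Over.comp_left, hψ] at hq
    change Spec.map φ₀ ≫ Spec.map (CommRingCat.ofHom ψ) ≫ hO.fromSpec = _ at hq
    rw [← Spec.map_comp_assoc] at hq
    have h := RingHom.congr_fun (hom_ext_of_fromSpec hO (g := φ.comp ψ) hq) x
    exact ⟨ψ x, h.trans ((hq' x).trans rfl)⟩
  -- cartesian
  have hcart : ∀ x, x - comp τA 0 x ∈ Ideal.span (Set.range fun y => φ (y - comp τB 0 y)) := by
    intro x
    let J : Ideal A := Ideal.span (Set.range fun y => φ (y - comp τB 0 y))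
    let q : A →+* A ⧸ J := Ideal.Quotient.mk J
    let z : Over.mk (Spec.map (CommRingCat.ofHom q) ≫ hO.fromSpec ≫ X.hom) ⟶ X :=
      Over.homMk (Spec.map (CommRingCat.ofHom q) ≫ hO.fromSpec) (Category.assoc _ _ _)
    obtain ⟨gB, hgB, hgB'⟩ := lim_left hU hτB (z ≫ f) _ (hcomp z q rfl)
    have hfix : lim b (z ≫ f) = z ≫ f := by
      refine Over.OverMorphism.ext ?_
      rw [hgB, hcomp z q rfl]
      congr 3
      refine RingHom.ext fun y => ?_
      rw [hgB', eq_comm]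
      exact Ideal.Quotient.eq.mpr (by rw [← map_sub]; exact Ideal.subset_span ⟨y, rfl⟩)
    obtain ⟨gA, hgA, hgA'⟩ := lim_left hO hτA z q rfl
    rw [hrefl _ z hfix] at hgA
    have h := RingHom.congr_fun (hom_ext_of_fromSpec hO (g := q) hgA) x
    rw [hgA'] at h
    exact Ideal.Quotient.eq.mp h
  -- flatness along the fixed locus
  have hflat : ∀ 𝔭 : Ideal B, 𝔭.IsPrime → (∀ y, y - comp τB 0 y ∈ 𝔭) → ∀ x, φ x = 0 → ∃ s, s ∉ 𝔭 ∧ s * x = 0 := by
    intro 𝔭 h𝔭 hfix x hx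
    let q : B →+* B ⧸ 𝔭 := Ideal.Quotient.mk 𝔭
    let w : Over.mk (Spec.map (CommRingCat.ofHom q) ≫ hU.fromSpec ≫ Y.hom) ⟶ Over.mk (hU.fromSpec ≫ Y.hom) :=
      chg B (hU.fromSpec ≫ Y.hom) (B ⧸ 𝔭) q
    obtain ⟨gB, hgB, hgB'⟩ := lim_left hU hτB (w ≫ taut hU) q rfl
    have hw : lim b (w ≫ taut hU) = w ≫ taut hU := by
      refine Over.OverMorphism.ext ?_
      rw [hgB]
      change _ = Spec.map (CommRingCat.ofHom q) ≫ hU.fromSpec
      congr 3
      refine RingHom.ext fun y => ?_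
      rw [hgB', eq_comm]
      exact Ideal.Quotient.eq.mpr (hfix y)
    let s₀ : Spec (CommRingCat.of (B ⧸ 𝔭)) := (⊥ : PrimeSpectrum (B ⧸ 𝔭))
    let xF : (Magnet.MonAct.fixedPsh a).obj (op (Over.mk (Spec.map (CommRingCat.ofHom q) ≫ hU.fromSpec ≫ Y.hom))) :=
      ⟨w ≫ g.1, fun T' t r => by rw [← Category.assoc]; exact g.2 T' (t ≫ w) r⟩
    have hxV : xF.1.left s₀ ∈ V := by
      change s₀ ∈ xF.1.left ⁻¹ᵁ V
      rw [h3 _ xF]
      trivial
    have hxO : xF.1.left s₀ ∈ f.left ⁻¹ᵁ U := by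
      change (w ≫ g.1).left s₀ ∈ _
      rw [Over.comp_left, Scheme.Hom.comp_apply]
      exact hgO _
    let v : V.toScheme := ⟨xF.1.left s₀, hxV⟩
    obtain ⟨_, ⟨D, hD, rfl⟩, hvD, hDO⟩ := V.toScheme.isBasis_affineOpens.exists_subset_of_mem_open
      (show v ∈ V.ι ⁻¹ᵁ (f.left ⁻¹ᵁ U) from hxO) (V.ι ⁻¹ᵁ (f.left ⁻¹ᵁ U)).isOpen
    have leD : D ≤ (V.ι ≫ f.left) ⁻¹ᵁ U := hDO
    let χ : Γ(Y.left, U) ⟶ Γ(V.toScheme, D) := (V.ι ≫ f.left).appLE U D leD
    have hχ : χ = φ₀ ≫ V.ι.appLE (f.left ⁻¹ᵁ U) D leD := (Scheme.Hom.appLE_comp_appLE _ _ _ _ _ _ _).symm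
    have hχflat : χ.hom.Flat :=
      HasRingHomProperty.appLE @Flat (V.ι ≫ f.left) inferInstance ⟨U, hU⟩ ⟨D, hD⟩ leD
    letI : Algebra B Γ(V.toScheme, D) := χ.hom.toAlgebra
    haveI : Module.Flat B Γ(V.toScheme, D) := hχflat
    have hx1 : x • (1 : Γ(V.toScheme, D)) = 0 := by
      rw [Algebra.smul_def, _root_.mul_one]
      change χ.hom x = 0
      rw [hχ]
      change (V.ι.appLE (f.left ⁻¹ᵁ U) D leD).hom (φ x) = 0
      rw [hx, map_zero]
    obtain ⟨n, c, y, hy, hc⟩ := Module.Flat.isTrivialRelation_of_sum_smul_eq_zero (R := B) (M := Γ(V.toScheme, D))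
      (f := fun _ : Fin 1 => x) (x := fun _ : Fin 1 => (1 : Γ(V.toScheme, D))) (by simpa using hx1)
    let Q := hD.primeIdealOf ⟨v, hvD⟩
    have hQ : Q.asIdeal.comap χ.hom = 𝔭 := by
      have h1 : hU.fromSpec (Spec.map χ Q) = hU.fromSpec (Spec.map (CommRingCat.ofHom q) s₀) := by
        rw [← Scheme.Hom.comp_apply, IsAffineOpen.SpecMap_appLE_fromSpec (V.ι ≫ f.left) hU hD leD, Scheme.Hom.comp_apply,
          hD.fromSpec_primeIdealOf, Scheme.Hom.comp_apply]
        change f.left ((w ≫ g.1).left s₀) = (w ≫ taut hU).left s₀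
        rw [← Scheme.Hom.comp_apply, ← Over.comp_left, Category.assoc, hg, comp_lim, hw]
      have h2 := congrArg PrimeSpectrum.asIdeal (hU.fromSpec.isOpenEmbedding.injective h1)
      refine h2.trans ?_
      change Ideal.comap q ⊥ = 𝔭
      exact Ideal.mk_ker
    by_contra hne
    push Not at hne
    refine Q.isPrime.ne_top (Q.asIdeal.eq_top_iff_one.mpr ?_)
    rw [show (1 : Γ(V.toScheme, D)) = ∑ i, c 0 i • y i from hy 0]
    refine Submodule.sum_mem _ fun i _ => ?_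
    have hci : c 0 i ∈ 𝔭 := by
      by_contra hci
      refine hne (c 0 i) hci ?_
      have := hc i
      rw [Fin.sum_univ_one] at this
      rwa [mul_comm]
    rw [← hQ] at hci
    rw [Algebra.smul_def]
    exact Ideal.mul_mem_right _ _ hci
  have hA := isCoaction hO hτA
  have hB := isCoaction hU hτB
  have hbij : Function.Bijective φ :=
    ⟨injective hB φ hφ hflat, surjective hA hB φ hφ h₀ hcart⟩
  haveI : IsIso φ₀ := (ConcreteCategory.isIso_iff_bijective φ₀).mpr hbij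
  have hres : (f.left ∣_ U) = hO.isoSpec.hom ≫ Spec.map φ₀ ≫ hU.isoSpec.inv := by
    rw [← cancel_mono U.ι, morphismRestrict_ι, Category.assoc, Category.assoc, IsAffineOpen.isoSpec_inv_ι, hφspec,
      IsAffineOpen.isoSpec_hom_fromSpec_assoc]
  rw [hres]
  infer_instance

include hf hsurj hinj hrefl in
theorem isIso_left
    (hX : ∀ x : X.left, ∃ U : X.left.Opens, x ∈ U ∧ IsAffineOpen U ∧ IsStable a U)
    (hY : ∀ y : Y.left, ∃ U : Y.left.Opens, y ∈ U ∧ IsAffineOpen U ∧ IsStable b U)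
    (V : X.left.Opens) [Flat (V.ι ≫ f.left)]
    (h3 : ∀ (T : Over S) (x : (Magnet.MonAct.fixedPsh a).obj (op T)), x.1.left ⁻¹ᵁ V = ⊤) :
    IsIso f.left := by
  refine IsZariskiLocalAtTarget.of_forall_exists_morphismRestrict (P := MorphismProperty.isomorphisms Scheme.{u})
    fun y => ?_
  obtain ⟨U, hyU, hU, hUs, hO, hOs⟩ := exists_affine_pieces f hf hsurj hinj hX hY y
  exact ⟨U, hyU, isIso_morphismRestrict f hf hsurj hinj hrefl hU hUs hO hOs V h3⟩

end

end Groth.Agent.BBIso
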